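import Groth.Prelude.Def_W4c1stackycurvesGalP1
import Mathlib.LinearAlgebra.Projectivization.Action
import Mathlib.LinearAlgebra.Matrix.GeneralLinearGroup.Defs
import Mathlib.LinearAlgebra.Matrix.NonsingularInverse
import Mathlib.FieldTheory.Galois.Basic

/-!
# Galois equivariant maps of three points on the projective line come from the base field
-/

set_option autoImplicit false

universe u

open Projectivization W4c1stackycurves Matrix

namespace Groth.Agent.H29GalP1

variable {K : Type u} [Field K]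

/-- A point of the projective line. -/
abbrev P1 (K : Type u) [Field K] := Projectivization K (Fin 2 → K)

/-- `A` sends the point `x` to the point `y`. -/
def Sends (A : Matrix (Fin 2) (Fin 2) K) (x y : P1 K) : Prop :=
  ∀ (v : Fin 2 → K) (hv : v ≠ 0), mk K v hv = x → ∃ h : A *ᵥ v ≠ 0, mk K (A *ᵥ v) h = y

theorem mulVec_ne_zero {A : Matrix (Fin 2) (Fin 2) K} (hA : A.det ≠ 0) {v : Fin 2 → K} (hv : v ≠ 0) :
    A *ᵥ v ≠ 0 := fun h => hv (eq_zero_of_mulVec_eq_zero hA h)

theorem sends_mk {A : Matrix (Fin 2) (Fin 2) K} (hA : A.det ≠ 0) {v w : Fin 2 → K} (hv : v ≠ 0) (hw : w ≠ 0)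
    {c : K} (h : A *ᵥ v = c • w) : Sends A (mk K v hv) (mk K w hw) := by
  intro v' hv' e
  refine ⟨mulVec_ne_zero hA hv', ?_⟩
  obtain ⟨a, rfl⟩ := (mk_eq_mk_iff' K _ _ hv' hv).1 e
  exact (mk_eq_mk_iff' K _ _ _ hw).2 ⟨a * c, by rw [mulVec_smul, h, smul_smul]⟩

theorem Sends.exists_eq {A : Matrix (Fin 2) (Fin 2) K} {v w : Fin 2 → K} {hv : v ≠ 0} {hw : w ≠ 0}
    (h : Sends A (mk K v hv) (mk K w hw)) : ∃ c : K, A *ᵥ v = c • w := by
  obtain ⟨h', e⟩ := h v hv rfl
  obtain ⟨a, ha⟩ := (mk_eq_mk_iff' K _ _ h' hw).1 e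
  exact ⟨a, ha.symm⟩

theorem Sends.comp {A B : Matrix (Fin 2) (Fin 2) K} {x y z : P1 K} (h : Sends A x y) (h' : Sends B y z) :
    Sends (B * A) x z := by
  intro v hv e
  obtain ⟨h₁, e₁⟩ := h v hv e
  obtain ⟨h₂, e₂⟩ := h' _ h₁ e₁
  refine ⟨by rwa [← mulVec_mulVec], ?_⟩
  rw [← e₂]
  exact mk_eq_mk_iff' K _ _ _ _ |>.2 ⟨1, by rw [one_smul, mulVec_mulVec]⟩

theorem Sends.inv {A : Matrix (Fin 2) (Fin 2) K} (hA : A.det ≠ 0) {x y : P1 K} (h : Sends A x y) :
    Sends A⁻¹ y x := by
  induction x using Projectivization.ind with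
  | h v hv =>
    induction y using Projectivization.ind with
    | h w hw =>
      obtain ⟨c, hc⟩ := h.exists_eq
      have hc0 : c ≠ 0 := fun e => mulVec_ne_zero hA hv (by rw [hc, e, zero_smul])
      have hu : IsUnit A.det := isUnit_iff_ne_zero.2 hA
      have hdet : A⁻¹.det ≠ 0 := (Matrix.isUnit_nonsing_inv_det A hu).ne_zero
      refine sends_mk hdet hw hv (c := c⁻¹) ?_
      have := congrArg (A⁻¹ *ᵥ ·) hc
      simp only [mulVec_mulVec, nonsing_inv_mul A hu, one_mulVec, mulVec_smul] at this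
      rw [this, smul_smul, inv_mul_cancel₀ hc0, one_smul]

/-- The standard frame. -/
def e0 : Fin 2 → K := ![1, 0]
def e1 : Fin 2 → K := ![0, 1]
def e2 : Fin 2 → K := ![1, 1]

theorem e0_ne : (e0 : Fin 2 → K) ≠ 0 := fun h => one_ne_zero (congrFun h 0 :)
theorem e1_ne : (e1 : Fin 2 → K) ≠ 0 := fun h => one_ne_zero (congrFun h 1 :)
theorem e2_ne : (e2 : Fin 2 → K) ≠ 0 := fun h => one_ne_zero (congrFun h 0 :)

/-- The cross product of two vectors. -/
def cr (v w : Fin 2 → K) : K := v 0 * w 1 - v 1 * w 0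

theorem cr_ne_zero {v w : Fin 2 → K} (hv : v ≠ 0) (hw : w ≠ 0) (h : mk K v hv ≠ mk K w hw) : cr v w ≠ 0 := by
  intro hcr
  rw [cr] at hcr
  refine h ((mk_eq_mk_iff' K _ _ hv hw).2 ?_)
  by_cases h0 : w 0 = 0
  · have h1 : w 1 ≠ 0 := fun h1 => hw (funext fun i => by fin_cases i <;> assumption)
    have hv0 : v 0 = 0 := by
      rw [h0, mul_zero, sub_zero] at hcr
      exact (mul_eq_zero.1 hcr).resolve_right h1
    refine ⟨v 1 / w 1, funext fun i => ?_⟩
    fin_cases i
    · simp [h0, hv0]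
    · simp [div_mul_cancel₀ _ h1]
  · refine ⟨v 0 / w 0, funext fun i => ?_⟩
    fin_cases i
    · simp [div_mul_cancel₀ _ h0]
    · simp only [Fin.mk_one, Pi.smul_apply, smul_eq_mul]
      field_simp
      linear_combination hcr

theorem exists_frame {x y z : P1 K} (hxy : x ≠ y) (hxz : x ≠ z) (hyz : y ≠ z) :
    ∃ A : Matrix (Fin 2) (Fin 2) K, A.det ≠ 0 ∧ Sends A (mk K e0 e0_ne) x ∧ Sends A (mk K e1 e1_ne) y ∧
      Sends A (mk K e2 e2_ne) z := by
  induction x using Projectivization.ind with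
  | h u hu =>
    induction y using Projectivization.ind with
    | h v hv =>
      induction z using Projectivization.ind with
      | h w hw =>
        have h1 := cr_ne_zero hu hv hxy
        have h2 := cr_ne_zero hu hw hxz
        have h3 := cr_ne_zero hv hw hyz
        set a := -cr v w / cr u v
        set b := cr u w / cr u v
        let A : Matrix (Fin 2) (Fin 2) K := !![a * u 0, b * v 0; a * u 1, b * v 1]
        have hA : A.det ≠ 0 := by
          rw [det_fin_two_of]
          have hd : a * u 0 * (b * v 1) - b * v 0 * (a * u 1) = a * b * cr u v := by rw [cr]; ring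
          rw [hd]
          exact mul_ne_zero (mul_ne_zero (div_ne_zero (neg_ne_zero.2 h3) h1) (div_ne_zero h2 h1)) h1
        refine ⟨A, hA, sends_mk hA e0_ne hu (c := a) ?_, sends_mk hA e1_ne hv (c := b) ?_,
          sends_mk hA e2_ne hw (c := 1) ?_⟩
        · ext i; fin_cases i <;> simp [A, e0, mulVec, dotProduct, Fin.sum_univ_two]
        · ext i; fin_cases i <;> simp [A, e1, mulVec, dotProduct, Fin.sum_univ_two]
        · ext i
          fin_cases i
          · simp [A, a, b, e2, mulVec, dotProduct, Fin.sum_univ_two]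
            field_simp
            simp only [cr]; ring
          · simp [A, a, b, e2, mulVec, dotProduct, Fin.sum_univ_two]
            field_simp
            simp only [cr]; ring

theorem eq_smul_one_of_fixes {M : Matrix (Fin 2) (Fin 2) K}
    (h0 : Sends M (mk K e0 e0_ne) (mk K e0 e0_ne)) (h1 : Sends M (mk K e1 e1_ne) (mk K e1 e1_ne))
    (h2 : Sends M (mk K e2 e2_ne) (mk K e2 e2_ne)) : M = M 0 0 • (1 : Matrix (Fin 2) (Fin 2) K) := by
  obtain ⟨a, ha⟩ := h0.exists_eq
  obtain ⟨b, hb⟩ := h1.exists_eq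
  obtain ⟨c, hc⟩ := h2.exists_eq
  have a0 := congrFun ha 0; have a1 := congrFun ha 1
  have b0 := congrFun hb 0; have b1 := congrFun hb 1
  have c0 := congrFun hc 0; have c1 := congrFun hc 1
  simp [e0, e1, e2, mulVec, dotProduct, Fin.sum_univ_two] at a0 a1 b0 b1 c0 c1
  ext i j
  fin_cases i <;> fin_cases j <;> simp
  · exact b0
  · exact a1
  · linear_combination c1 - c0 + b0 - a1

theorem exists_smul_eq {A B : Matrix (Fin 2) (Fin 2) K} (hA : A.det ≠ 0) (hB : B.det ≠ 0) {x y z x' y' z' : P1 K}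
    (hxy : x ≠ y) (hxz : x ≠ z) (hyz : y ≠ z) (a1 : Sends A x x') (a2 : Sends A y y') (a3 : Sends A z z')
    (b1 : Sends B x x') (b2 : Sends B y y') (b3 : Sends B z z') : ∃ c : K, c ≠ 0 ∧ B = c • A := by
  obtain ⟨F, hF, f1, f2, f3⟩ := exists_frame hxy hxz hyz
  let M := F⁻¹ * (A⁻¹ * (B * F))
  have hM := eq_smul_one_of_fixes (M := M) (((f1.comp b1).comp (a1.inv hA)).comp (f1.inv hF))
    (((f2.comp b2).comp (a2.inv hA)).comp (f2.inv hF)) (((f3.comp b3).comp (a3.inv hA)).comp (f3.inv hF))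
  have hFu : IsUnit F.det := isUnit_iff_ne_zero.2 hF
  have hAu : IsUnit A.det := isUnit_iff_ne_zero.2 hA
  have h1 : A⁻¹ * B = M 0 0 • (1 : Matrix (Fin 2) (Fin 2) K) := by
    have h : F * M * F⁻¹ = F * (M 0 0 • (1 : Matrix (Fin 2) (Fin 2) K)) * F⁻¹ := congrArg (fun N => F * N * F⁻¹) hM
    rw [mul_smul_comm, smul_mul_assoc, mul_one, mul_nonsing_inv F hFu] at h
    rw [← h]
    simp only [M, ← mul_assoc, mul_nonsing_inv F hFu, one_mul]
    rw [mul_nonsing_inv_cancel_right _ _ hFu]
  have h2 : B = M 0 0 • A := by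
    have h := congrArg (A * ·) h1
    simpa [← mul_assoc, mul_nonsing_inv A hAu] using h
  refine ⟨M 0 0, fun e => ?_, h2⟩
  rw [e, zero_smul] at h2
  exact hB (by rw [h2]; simp)

variable {k : Type u} [Field k] [Algebra k K]

theorem galP_mk (σ : K ≃ₐ[k] K) {v : Fin 2 → K} (hv : v ≠ 0) :
    galP σ (mk K v hv) = mk K (galVec σ (Fin 2) v) (fun h => hv (galVec_injective σ (Fin 2) (h.trans (map_zero _).symm))) :=
  rfl

theorem galP_symm (σ : K ≃ₐ[k] K) (x : P1 K) : galP σ (galP σ.symm x) = x := by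
  induction x using Projectivization.ind with
  | h v hv =>
    rw [galP_mk, galP_mk]
    congr 1
    ext i
    simp [galVec_apply]

theorem galP_injective (σ : K ≃ₐ[k] K) : Function.Injective (galP σ : P1 K → P1 K) := fun x y h => by
  have := congrArg (galP σ.symm) h
  rwa [show ∀ z, galP σ.symm (galP σ z) = z from fun z => galP_symm σ.symm z, show ∀ z, galP σ.symm (galP σ z) = z from fun z => galP_symm σ.symm z] at this

theorem Sends.gal {A : Matrix (Fin 2) (Fin 2) K} (hA : A.det ≠ 0) {x y : P1 K} (h : Sends A x y) (σ : K ≃ₐ[k] K) :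
    Sends (A.map σ) (galP σ x) (galP σ y) := by
  induction x using Projectivization.ind with
  | h v hv =>
    induction y using Projectivization.ind with
    | h w hw =>
      obtain ⟨c, hc⟩ := h.exists_eq
      have hd : (A.map σ).det ≠ 0 := by
        rw [show A.map σ = (σ : K →+* K).mapMatrix A from rfl, ← RingHom.map_det]
        exact fun e => hA (σ.injective (e.trans (map_zero σ).symm))
      rw [galP_mk, galP_mk]
      refine sends_mk hd _ _ (c := σ c) ?_
      ext i
      have := congrArg σ (congrFun hc i)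
      simpa [mulVec, dotProduct, Fin.sum_univ_two, galVec_apply] using this

theorem exists_base [FiniteDimensional k K] [IsGalois k K] :
    ∀ (n : ℕ) (S : Set (P1 K)) (f : P1 K → P1 K), S.Finite → S.ncard + n = 3 →
      (∀ (σ : K ≃ₐ[k] K) x, x ∈ S → galP σ x ∈ S) → Set.InjOn f S →
      (∀ (σ : K ≃ₐ[k] K) x, x ∈ S → f (galP σ x) = galP σ (f x)) →
      ∃ G : Matrix (Fin 2) (Fin 2) k, G.det ≠ 0 ∧ ∀ x ∈ S, Sends (G.map (algebraMap k K)) x (f x) := by
  classical
  intro n
  induction n with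
  | zero =>
    intro S f _ hn hS hinj heq
    obtain ⟨x, y, z, hxy, hxz, hyz, rfl⟩ := Set.ncard_eq_three.1 (by simpa using hn)
    have mx : x ∈ ({x, y, z} : Set (P1 K)) := by simp
    have my : y ∈ ({x, y, z} : Set (P1 K)) := by simp
    have mz : z ∈ ({x, y, z} : Set (P1 K)) := by simp
    obtain ⟨F, hF, f1, f2, f3⟩ := exists_frame hxy hxz hyz
    obtain ⟨E, hE, g1, g2, g3⟩ := exists_frame (hinj.ne mx my hxy) (hinj.ne mx mz hxz) (hinj.ne my mz hyz)
    let A := E * F⁻¹
    have hA : A.det ≠ 0 := by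
      rw [det_mul]
      exact mul_ne_zero hE (Matrix.isUnit_nonsing_inv_det F (isUnit_iff_ne_zero.2 hF)).ne_zero
    have hA3 : ∀ w ∈ ({x, y, z} : Set (P1 K)), Sends A w (f w) := by
      intro w hw
      rcases hw with rfl | rfl | rfl
      · exact (f1.inv hF).comp g1
      · exact (f2.inv hF).comp g2
      · exact (f3.inv hF).comp g3
    have hgal : ∀ σ : K ≃ₐ[k] K, ∀ w ∈ ({x, y, z} : Set (P1 K)), Sends (A.map σ) w (f w) := by
      intro σ w hw
      have h := (hA3 _ (hS σ.symm w hw)).gal hA σ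
      rwa [galP_symm, heq σ.symm w hw, galP_symm] at h
    obtain ⟨i, j, hij⟩ : ∃ i j, A i j ≠ 0 := by
      by_contra h
      push Not at h
      exact hA (by rw [show A = 0 from Matrix.ext h]; simp)
    have hfix : ∀ σ : K ≃ₐ[k] K, ∀ a b, σ (A a b / A i j) = A a b / A i j := by
      intro σ a b
      have hd : (A.map σ).det ≠ 0 := by
        rw [show A.map σ = (σ : K →+* K).mapMatrix A from rfl, ← RingHom.map_det]
        exact fun e => hA (σ.injective (e.trans (map_zero σ).symm))
      obtain ⟨c, hc0, hc⟩ := exists_smul_eq hA hd hxy hxz hyz (hA3 x mx) (hA3 y my) (hA3 z mz)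
        (hgal σ x mx) (hgal σ y my) (hgal σ z mz)
      have h1 : σ (A a b) = c * A a b := congrFun (congrFun hc a) b
      have h2 : σ (A i j) = c * A i j := congrFun (congrFun hc i) j
      rw [map_div₀, h1, h2, mul_div_mul_left _ _ hc0]
    choose G hG using fun a b => IntermediateField.mem_bot.1
      ((IsGalois.mem_bot_iff_fixed (A a b / A i j)).2 fun σ => hfix σ a b)
    have hmap : (Matrix.of G).map (algebraMap k K) = (A i j)⁻¹ • A := by
      ext a b
      simp [hG a b, div_eq_inv_mul]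
    refine ⟨Matrix.of G, fun h0 => ?_, fun w hw => ?_⟩
    · have h := congrArg (algebraMap k K) h0
      rw [RingHom.map_det, map_zero, RingHom.mapMatrix_apply, hmap, det_smul] at h
      exact mul_ne_zero (pow_ne_zero _ (inv_ne_zero hij)) hA h
    · rw [hmap]
      intro v hv e
      obtain ⟨h, e'⟩ := hA3 w hw v hv e
      refine ⟨by rw [smul_mulVec]; exact smul_ne_zero (inv_ne_zero hij) h, ?_⟩
      rw [← e']
      exact (mk_eq_mk_iff' K _ _ _ _).2 ⟨(A i j)⁻¹, by rw [smul_mulVec]⟩
  | succ n ih =>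
    intro S f hfin hn hS hinj heq
    have key : ∀ T : Set (P1 K), T.Finite → T.ncard < 3 → ∃ p ∉ T, ∀ σ : K ≃ₐ[k] K, galP σ p = p := by
      intro T hT hlt
      by_contra h
      push Not at h
      have hall : ∀ (v : Fin 2 → K) (hv : v ≠ 0), (∀ (σ : K ≃ₐ[k] K) i, σ (v i) = v i) → mk K v hv ∈ T := by
        intro v hv hfx
        by_contra hm
        obtain ⟨σ, hσ⟩ := h _ hm
        refine hσ ?_
        rw [galP_mk]
        congr 1
        ext i
        exact hfx σ i
      have hsub : ({mk K e0 e0_ne, mk K e1 e1_ne, mk K e2 e2_ne} : Set (P1 K)) ⊆ T := by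
        rintro w (rfl | rfl | rfl)
        · exact hall _ _ fun σ i => by fin_cases i <;> simp [e0]
        · exact hall _ _ fun σ i => by fin_cases i <;> simp [e1]
        · exact hall _ _ fun σ i => by fin_cases i <;> simp [e2]
      have hne : ∀ {v w : Fin 2 → K} (hv : v ≠ 0) (hw : w ≠ 0), cr v w ≠ 0 → mk K v hv ≠ mk K w hw := by
        intro v w hv hw hc e
        obtain ⟨a, rfl⟩ := (mk_eq_mk_iff' K _ _ hv hw).1 e
        exact hc (by simp [cr]; ring)
      have h3 : ({mk K e0 e0_ne, mk K e1 e1_ne, mk K e2 e2_ne} : Set (P1 K)).ncard = 3 :=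
        Set.ncard_eq_three.2 ⟨_, _, _, hne _ _ (by simp [cr, e0, e1]), hne _ _ (by simp [cr, e0, e2]),
          hne _ _ (by simp [cr, e1, e2]), rfl⟩
      have := Set.ncard_le_ncard hsub hT
      omega
    obtain ⟨p, hp, hpσ⟩ := key S hfin (by omega)
    obtain ⟨q, hq, hqσ⟩ := key (f '' S) (hfin.image f) (lt_of_le_of_lt (Set.ncard_image_le hfin) (by omega))
    obtain ⟨G, hG, hGS⟩ := ih (insert p S) (Function.update f p q) (hfin.insert p)
      (by rw [Set.ncard_insert_of_notMem hp hfin]; omega)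
      (fun σ w hw => by
        rcases hw with rfl | hw
        · rw [hpσ σ]; exact Set.mem_insert _ _
        · exact Set.mem_insert_of_mem _ (hS σ w hw))
      ((Set.injOn_insert hp).2 ⟨hinj.congr fun w hw => (Function.update_of_ne (ne_of_mem_of_not_mem hw hp) _ _).symm,
        by
          rintro ⟨w, hw, e⟩
          rw [Function.update_self, Function.update_of_ne (ne_of_mem_of_not_mem hw hp)] at e
          exact hq ⟨w, hw, e⟩⟩)
      (fun σ w hw => by
        rcases hw with rfl | hw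
        · rw [hpσ σ, Function.update_self, hqσ σ]
        · rw [Function.update_of_ne (ne_of_mem_of_not_mem (hS σ w hw) hp),
            Function.update_of_ne (ne_of_mem_of_not_mem hw hp), heq σ w hw])
    refine ⟨G, hG, fun w hw => ?_⟩
    have h := hGS w (Set.mem_insert_of_mem _ hw)
    rwa [Function.update_of_ne (ne_of_mem_of_not_mem hw hp)] at h

end Groth.Agent.H29GalP1
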